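import Mathlib.CategoryTheory.Abelian.Injective.Resolution
import Mathlib.Algebra.Homology.QuasiIso
import Mathlib.Algebra.Homology.Homotopy

/-!
# Lifting injective resolutions to degreewise split epimorphisms
-/

set_option autoImplicit false
universe v u

open CategoryTheory CategoryTheory.Limits ZeroObject

namespace Groth.Agent.InjResSplit

variable {C : Type u} [Category.{v} C] [Abelian C] (R I : CochainComplex C ℕ) (γ : R ⟶ I)

/-- `I` shifted by one, with zero in degree 0. -/
noncomputable def P : ℕ → C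
  | 0 => 0
  | p + 1 => I.X p

noncomputable def dP : ∀ p, P I p ⟶ I.X p
  | 0 => 0
  | p + 1 => I.d p (p + 1)

lemma dP_d (p : ℕ) : dP I p ≫ I.d p (p + 1) = 0 := by
  cases p with
  | zero => exact zero_comp
  | succ p => exact I.d_comp_d _ _ _

noncomputable def toP (p : ℕ) : I.X p ⟶ P I (p + 1) := 𝟙 (I.X p)

noncomputable def ofP (p : ℕ) : P I (p + 1) ⟶ I.X p := 𝟙 (I.X p)

@[reassoc] lemma toP_ofP (p : ℕ) : toP I p ≫ ofP I p = 𝟙 _ := Category.id_comp _
@[reassoc] lemma ofP_toP (p : ℕ) : ofP I p ≫ toP I p = 𝟙 _ := Category.id_comp _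
@[reassoc] lemma toP_dP (p : ℕ) : toP I p ≫ dP I (p + 1) = I.d p (p + 1) := Category.id_comp _

/-- one step of the differential -/
noncomputable def step (p : ℕ) : R.X p ⊞ (I.X p ⊞ P I p) ⟶ R.X (p + 1) ⊞ (I.X (p + 1) ⊞ P I (p + 1)) :=
  biprod.map (R.d p (p + 1)) (biprod.fst ≫ toP I p ≫ biprod.inr)

@[reassoc] lemma step_step (p : ℕ) : step R I p ≫ step R I (p + 1) = 0 := by
  refine biprod.hom_ext' _ _ ?_ (biprod.hom_ext' _ _ ?_ ?_) <;> simp [step]

/-- `R ⊕ (contractible complex on I)`. -/
noncomputable abbrev J : CochainComplex C ℕ where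
  X p := R.X p ⊞ (I.X p ⊞ P I p)
  d i j := if h : i + 1 = j then step R I i ≫ eqToHom (by rw [h]) else 0
  shape i j hij := dif_neg hij
  d_comp_d' i j k hij hjk := by
    obtain rfl : i + 1 = j := hij
    obtain rfl : i + 1 + 1 = k := hjk
    simp [step_step]

lemma J_d (p : ℕ) : (J R I).d p (p + 1) =
    biprod.map (R.d p (p + 1)) (biprod.fst ≫ toP I p ≫ biprod.inr) := by simp [step]

noncomputable def incl : R ⟶ J R I :=
  { f := fun p => biprod.inl
    comm' := fun i j hij => by
      obtain rfl : i + 1 = j := hij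
      rw [J_d]; simp }

noncomputable def proj : J R I ⟶ R :=
  { f := fun p => biprod.fst
    comm' := fun i j hij => by
      obtain rfl : i + 1 = j := hij
      rw [J_d]; simp }

noncomputable def beta : J R I ⟶ I :=
  { f := fun p => biprod.desc (γ.f p) (biprod.desc (𝟙 _) (dP I p))
    comm' := fun i j hij => by
      obtain rfl : i + 1 = j := hij
      rw [J_d]
      refine biprod.hom_ext' _ _ ?_ ?_
      · simp
      · refine biprod.hom_ext' _ _ ?_ ?_
        · simp [toP_dP]
        · simp [dP_d] }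

noncomputable def h (i j : ℕ) (hij : (ComplexShape.up ℕ).Rel j i) : (J R I).X i ⟶ (J R I).X j :=
  eqToHom (show (J R I).X i = (J R I).X (j + 1) by rw [show j + 1 = i from hij]) ≫
    ((biprod.snd ≫ biprod.snd ≫ ofP I j ≫ biprod.inl ≫ biprod.inr) :
      R.X (j + 1) ⊞ (I.X (j + 1) ⊞ P I (j + 1)) ⟶ R.X j ⊞ (I.X j ⊞ P I j))

lemma null : Homotopy.nullHomotopicMap' (h R I) = 𝟙 (J R I) - proj R I ≫ incl R I := by
  apply HomologicalComplex.hom_ext
  intro p
  cases p with
  | zero =>
    rw [Homotopy.nullHomotopicMap'_f_of_not_rel_right (show (ComplexShape.up ℕ).Rel 0 1 from rfl)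
      (fun l hl => Nat.succ_ne_zero l hl), J_d]
    simp only [h, eqToHom_refl, Category.id_comp, HomologicalComplex.sub_f_apply, HomologicalComplex.id_f,
      HomologicalComplex.comp_f, proj, incl]
    refine biprod.hom_ext' _ _ ?_ (biprod.hom_ext' _ _ ?_ ?_)
    · simp
    · simp [toP_ofP_assoc]
    · exact (isZero_zero C).eq_of_src _ _
  | succ p =>
    rw [Homotopy.nullHomotopicMap'_f (show (ComplexShape.up ℕ).Rel p (p + 1) from rfl)
      (show (ComplexShape.up ℕ).Rel (p + 1) (p + 2) from rfl), J_d, J_d]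
    simp only [h, eqToHom_refl, Category.id_comp, HomologicalComplex.sub_f_apply, HomologicalComplex.id_f,
      HomologicalComplex.comp_f, proj, incl]
    refine biprod.hom_ext' _ _ ?_ (biprod.hom_ext' _ _ ?_ ?_)
    · simp
    · simp [toP_ofP_assoc]
    · simp [ofP_toP_assoc]

noncomputable def hequiv : HomotopyEquiv R (J R I) where
  hom := incl R I
  inv := proj R I
  homotopyHomInvId := Homotopy.ofEq (HomologicalComplex.hom_ext _ _ fun p => by simp [incl, proj])
  homotopyInvHomId := by
    refine (Homotopy.equivSubZero.symm ?_).symm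
    rw [← null]
    exact Homotopy.nullHomotopy' _

theorem exists_split [EnoughInjectives C] {G F : C} (α : G ⟶ F) (I : InjectiveResolution F) :
    ∃ (J : InjectiveResolution G) (β : J.cocomplex ⟶ I.cocomplex),
      J.ι ≫ β = (CochainComplex.single₀ C).map α ≫ I.ι ∧
      ∀ p : ℕ, ∃ (K : C) (e : J.cocomplex.X p ≅ I.cocomplex.X p ⊞ K), β.f p = e.hom ≫ biprod.fst := by
  let R := InjectiveResolution.of G
  let γ := InjectiveResolution.desc α I R
  have : QuasiIso (incl R.cocomplex I.cocomplex) :=
    ⟨fun i => (hequiv R.cocomplex I.cocomplex).quasiIsoAt_hom i⟩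
  have hP : ∀ p, Injective (P I.cocomplex p) := fun p => by
    cases p with
    | zero => exact inferInstanceAs (Injective (0 : C))
    | succ p => exact I.injective p
  refine ⟨{ cocomplex := J R.cocomplex I.cocomplex
            injective := fun n => inferInstanceAs (Injective (_ ⊞ (_ ⊞ _)))
            ι := R.ι ≫ incl R.cocomplex I.cocomplex
            quasiIso := quasiIso_comp _ _ }, beta R.cocomplex I.cocomplex γ, ?_, fun p => ?_⟩
  · have hib : incl R.cocomplex I.cocomplex ≫ beta R.cocomplex I.cocomplex γ = γ := by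
      exact HomologicalComplex.hom_ext _ _ fun p => by simp [incl, beta]
    show (R.ι ≫ incl _ _) ≫ beta _ _ _ = _
    rw [Category.assoc, hib]
    exact InjectiveResolution.desc_commutes _ _ _
  · refine ⟨R.cocomplex.X p ⊞ P I.cocomplex p,
      { hom := biprod.lift (biprod.desc (γ.f p) (biprod.desc (𝟙 _) (dP I.cocomplex p)))
          (biprod.map (𝟙 _) biprod.snd)
        inv := biprod.desc (biprod.inl ≫ biprod.inr)
          (biprod.desc (biprod.inl - γ.f p ≫ biprod.inl ≫ biprod.inr)
            (biprod.inr ≫ biprod.inr - dP I.cocomplex p ≫ biprod.inl ≫ biprod.inr))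
        hom_inv_id := ?_
        inv_hom_id := ?_ }, ?_⟩
    · refine biprod.hom_ext' _ _ ?_ (biprod.hom_ext' _ _ ?_ ?_) <;>
        apply biprod.hom_ext <;> (try apply biprod.hom_ext) <;> simp
    · refine biprod.hom_ext' _ _ ?_ (biprod.hom_ext' _ _ ?_ ?_) <;>
        apply biprod.hom_ext <;> (try apply biprod.hom_ext) <;> simp
    · exact (biprod.lift_fst _ _).symm

end Groth.Agent.InjResSplit
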